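import Cfsg.Agent.H419.EP.Big
import Cfsg.Agent.H762.EPV.UBThree
import Cfsg.Agent.H433.EP.LSn
import Cfsg.Agent.H517.EP.McLDat
import Cfsg.Agent.H49.CoStab
import Cfsg.Agent.S2071

/-!
# S3499-V, the sporadic row `soc(A) = Co3` (helper517)

`|Q| < 2 ^ 181` (UB3); characteristic not 5: `n ≥ 20` (`LS 5 20`), so `|Q| ≥ 2 ^ 187`; characteristic 5: `n = 13`, `|F| = 5`
and 23 does not divide `|GL₁₃(5)|`.
-/

set_option autoImplicit false

namespace Cfsg.Agent.H517.EP

open Subgroup Cfsg Cfsg.Agent.H284 Cfsg.Agent.H419.EP Cfsg.Agent.H59.EP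
open scoped MatrixGroups

theorem card_mulAut_co3 : Nat.card (MulAut Spor.Co3) ≤ 495766656000 := by
  have hfin : Finite Spor.Co3 := H49.CoStab.finite_co3
  have hidx : (MulAut.conj : ↥Cfsg.Spor.Co3 →* MulAut ↥Cfsg.Spor.Co3).range.index = 1 := S2071.result
  rw [← (MulAut.conj : ↥Cfsg.Spor.Co3 →* MulAut ↥Cfsg.Spor.Co3).range.card_mul_index, hidx, mul_one, ←
    H49.CoStab.card_co3]
  exact Nat.card_le_card_of_surjective _ (MulAut.conj : ↥Cfsg.Spor.Co3 →* MulAut ↥Cfsg.Spor.Co3).rangeRestrict_surjective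

variable {Q : Type} [Group Q] [Finite Q] {A : Subgroup Q} {Γ : Subgroup (MulAut Q)}

theorem co3_cardA (hsoc : HasSoc A Spor.Co3) : Nat.card A = 495766656000 := by
  have hfin : Finite Spor.Co3 := H49.CoStab.finite_co3
  apply le_antisymm (hsoc.card_le.trans card_mulAut_co3)
  have h1 := hsoc.card_dvd
  rw [H49.CoStab.card_co3] at h1
  exact Nat.le_of_dvd Nat.card_pos h1

/-- the numerical bound -/
theorem co3_num : 495766656000 * (1 + (([(2, 10), (3, 7), (5, 3), (7, 1), (11, 1), (23, 1)].map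
    fun x : ℕ × ℕ => gal x.1 x.2).sum * (495766656000 / 6) + 495766656000 ^ 2 / 60 + 495766656000 ^ 3 / 3600) *
    (2 * (495766656000 / 6))) < 2 ^ 181 := by decide +kernel

theorem co3_prod : 495766656000 = (([(2, 10), (3, 7), (5, 3), (7, 1), (11, 1), (23, 1)] : List (ℕ × ℕ)).map
    fun x => x.1 ^ x.2).prod := by decide +kernel

theorem co3_prime : ∀ x ∈ ([(2, 10), (3, 7), (5, 3), (7, 1), (11, 1), (23, 1)] : List (ℕ × ℕ)), x.1.Prime ∧ 0 < x.2 := by
  intro x hx
  simp only [List.mem_cons, List.not_mem_nil, or_false] at hx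
  rcases hx with rfl | rfl | rfl | rfl | rfl | rfl <;> norm_num

variable {ι : Type} [Fintype ι] [DecidableEq ι] {F : Type} [Field F] [Fintype F] {S P : Subgroup (GL ι F)}

theorem co3_cardQ (hg : TwoGen.{0}) (b : Big A Γ S P) (h : HasSoc A Spor.Co3) : Nat.card Q < 2 ^ 181 := by
  have hA := co3_cardA h
  have hab : ∀ K : Subgroup Q, K ≤ A → (∀ a ∈ A, ∀ k ∈ K, a * k * a⁻¹ ∈ K) →
      (∀ a ∈ K, ∀ b ∈ K, a * b = b * a) → K = ⊥ := fun K hK hn hab =>
    b.hasSoc.no_abelian b.core.simple (fun h => b.core.nonabelian ⟨⟨h⟩⟩) hK hn hab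
  have h1 := Cfsg.Agent.H762.EPV.index_le_three_dvd hg b.simple b.ept hab (N := 495766656000) (dvd_of_eq hA)
    (by norm_num) _ co3_prime (by decide) co3_prod
  rw [← A.card_mul_index, hA]
  exact lt_of_le_of_lt (Nat.mul_le_mul_left _ h1) co3_num

/-- bounds from the order -/
theorem pow_lt_of_big (b : Big A Γ S P) (h : Nat.card Q < 2 ^ 181) {q n : ℕ} (hq : q ≤ Fintype.card F)
    (hn : n ≤ Fintype.card ι) : q ^ (n * (n - 1) / 2) < 2 ^ 184 := by
  have h1 : q ^ (n * (n - 1) / 2) ≤ Fintype.card F ^ (Fintype.card ι * (Fintype.card ι - 1) / 2) := by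
    refine (Nat.pow_le_pow_left hq _).trans (Nat.pow_le_pow_right (by have := b.two_le; omega) ?_)
    apply Nat.div_le_div_right
    exact Nat.mul_le_mul hn (by omega)
  calc q ^ (n * (n - 1) / 2) ≤ 8 * Nat.card Q := h1.trans b.ord
    _ < 8 * 2 ^ 181 := Nat.mul_lt_mul_of_pos_left h (by norm_num)
    _ = 2 ^ 184 := by norm_num

theorem card_GL_eq {n : ℕ} (hn : Fintype.card ι = n) :
    Nat.card (GL ι F) = ∏ i ∈ Finset.range n, (Fintype.card F ^ n - Fintype.card F ^ i) := by
  subst hn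
  let E : Matrix ι ι F ≃* Matrix (Fin (Fintype.card ι)) (Fin (Fintype.card ι)) F :=
    (Matrix.reindexAlgEquiv F F (Fintype.equivFin ι)).toMulEquiv
  rw [Nat.card_congr (Units.mapEquiv E).toEquiv]
  have h := Matrix.card_GL_field (𝔽 := F) (Fintype.card ι)
  rw [Fin.prod_univ_eq_prod_range (fun i => Fintype.card F ^ Fintype.card ι - Fintype.card F ^ i)] at h
  exact h

theorem not_dvd_num : ¬ 23 ∣ ∏ i ∈ Finset.range 13, (5 ^ 13 - 5 ^ i) := by decide +kernel

/-- **Row `Co3`.** -/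
theorem co3 (hg : TwoGen.{0}) : BigOf (fun L _ => Spor.IsoCo3 L) := by
  intro Q _ _ A Γ ι _ _ F _ _ S P b h
  obtain ⟨e⟩ := id h
  have hQ := co3_cardQ hg b (b.hasSoc' e)
  have h13 := b.thirteen
  by_cases h5 : ((5 : ℕ) : F) = 0
  · -- characteristic 5
    have hchar : CharP F 5 := by
      obtain ⟨p, hp⟩ := CharP.exists F
      have h1 : p ∣ 5 := (CharP.cast_eq_zero_iff F p 5).1 h5
      rcases (Nat.dvd_prime Nat.prime_five).1 h1 with h2 | h2
      · subst h2
        exact absurd rfl (CharP.char_ne_one F 1)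
      · subst h2
        exact hp
    obtain ⟨k, hk, hF⟩ := FiniteField.card F 5
    have hF5 : Fintype.card F = 5 := by
      rcases Nat.lt_or_ge (k : ℕ) 2 with h2 | h2
      · have h4 : (k : ℕ) = 1 := by have := k.pos; omega
        rw [hF, h4, pow_one]
      · exfalso
        have h4 : 25 ≤ Fintype.card F := by
          rw [hF]
          calc 25 = 5 ^ 2 := by norm_num
            _ ≤ 5 ^ (k : ℕ) := Nat.pow_le_pow_right (by norm_num) h2
        have := pow_lt_of_big b hQ h4 h13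
        norm_num at this
    have hn : Fintype.card ι = 13 := by
      by_contra hne
      have := pow_lt_of_big b hQ hF5.ge (n := 14) (by omega)
      norm_num at this
    have h1 : Nat.card Spor.Co3 ∣ Nat.card (GL ι F) := by
      rw [← Nat.card_congr e.toEquiv]
      exact (Subgroup.card_quotient_dvd_card _).trans (Subgroup.card_subgroup_dvd_card _)
    rw [H49.CoStab.card_co3, card_GL_eq hn, hF5] at h1
    exact not_dvd_num ((by norm_num : (23 : ℕ) ∣ 495766656000).trans h1)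
  · have h20 := Cfsg.Agent.H433.EP.le_card_of_core (McLDat.ls_co3.{0, 0} H49.CoStab.simple_co3) h5 b.core ⟨e⟩
    have := pow_lt_of_big b hQ b.two_le h20
    norm_num at this

end Cfsg.Agent.H517.EP
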